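import Cfsg.Agent.H589.Tilde

/-!
# The number of `p`-regular elements in a coset of a normal subgroup

`dvd_card_coset`: the number of elements of order prime to `p` in a coset of a normal subgroup `N`
is divisible by the `p'`-part of the order of `N`.
-/

set_option autoImplicit false

open Cfsg
open scoped ComplexConjugate

namespace Cfsg.Agent.H589.CosetReg

open Cfsg.Agent.Blocks.Blau Cfsg.Agent.Characters Cfsg.Agent.H589.Tilde

universe u

variable {G : Type u} [Group G]

/-- Second orthogonality: the function counting the `t` with `t g t⁻¹ = y` is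
`∑ conj (χ g) χ y`. -/
theorem count_eq_sum {Q : Type u} [Group Q] [Fintype Q] [DecidableEq Q] [Fintype (IrrCharacter Q)] (g : Q) :
    (fun y : Q => ∑ t : Q, (if t * g * t⁻¹ = y then (1 : ℂ) else 0)) =
      ∑ χ : IrrCharacter Q, conj ((χ : Q → ℂ) g) • (χ : Q → ℂ) := by
  have hcl : IsClassFunction Q (fun y : Q => ∑ t : Q, (if t * g * t⁻¹ = y then (1 : ℂ) else 0)) := by
    intro y s
    show ∑ t : Q, (if t * g * t⁻¹ = s * y * s⁻¹ then (1 : ℂ) else 0) = _
    rw [← Equiv.sum_comp (Equiv.mulLeft s)]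
    refine Finset.sum_congr rfl fun t _ => ?_
    have : (Equiv.mulLeft s t * g * (Equiv.mulLeft s t)⁻¹ = s * y * s⁻¹) ↔ t * g * t⁻¹ = y := by
      simp only [Equiv.coe_mulLeft]
      constructor
      · intro h
        have h1 : s * (t * g * t⁻¹) * s⁻¹ = s * y * s⁻¹ := by rw [← h]; group
        exact mul_left_cancel (mul_right_cancel h1)
      · rintro rfl
        group
    by_cases h : t * g * t⁻¹ = y
    · rw [if_pos h, if_pos (this.2 h)]
    · rw [if_neg h, if_neg (fun h' => h (this.1 h'))]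
  rw [Core.classFunction_eq_sum hcl]
  refine Finset.sum_congr rfl fun χ _ => ?_
  congr 1
  unfold classInner
  have h1 : ∀ y : Q, (∑ t : Q, (if t * g * t⁻¹ = y then (1 : ℂ) else 0)) * conj ((χ : Q → ℂ) y) =
      ∑ t : Q, (if t * g * t⁻¹ = y then conj ((χ : Q → ℂ) g) else 0) := by
    intro y
    rw [Finset.sum_mul]
    refine Finset.sum_congr rfl fun t _ => ?_
    by_cases h : t * g * t⁻¹ = y
    · rw [if_pos h, if_pos h, one_mul, ← h, Core.isIrr_isClassFunction χ.2 g t]
    · rw [if_neg h, if_neg h, zero_mul]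
  rw [Finset.sum_congr rfl (fun y _ => h1 y), Finset.sum_comm]
  have h2 : ∀ t : Q, ∑ y : Q, (if t * g * t⁻¹ = y then conj ((χ : Q → ℂ) g) else 0) =
      conj ((χ : Q → ℂ) g) := by
    intro t
    rw [Finset.sum_ite_eq]
    simp
  rw [Finset.sum_congr rfl (fun t _ => h2 t), Finset.sum_const, Finset.card_univ, nsmul_eq_mul,
    ← Nat.card_eq_fintype_card, ← mul_assoc, inv_mul_cancel₀, one_mul]
  exact_mod_cast Nat.card_pos.ne'

/-- The number of elements of order prime to `p` in a coset of a normal subgroup `N` is divisible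
by the `p'`-part of the order of `N`. -/
theorem dvd_card_coset [Finite G] (p : ℕ) [Fact p.Prime] (N : Subgroup G) [N.Normal] (g : G ⧸ N) :
    Nat.card N / p ^ (Nat.card N).factorization p ∣
      Nat.card {x : G // (x : G ⧸ N) = g ∧ ¬ p ∣ orderOf x} := by
  classical
  have := Fintype.ofFinite G
  have := Fintype.ofFinite (G ⧸ N)
  have := Core.finite_irr (G := G)
  have := Fintype.ofFinite (IrrCharacter G)
  have := Core.finite_irr (G := G ⧸ N)
  have := Fintype.ofFinite (IrrCharacter (G ⧸ N))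
  have hp : p.Prime := Fact.out
  set a := (Nat.card G).factorization p with ha
  set c := Nat.card {x : G // (x : G ⧸ N) = g ∧ ¬ p ∣ orderOf x} with hc
  -- the generalized character
  let one : IrrCharacter G := ⟨1, Core.isIrr_one⟩
  set T : G → ℂ := tilde p (1 : G → ℂ) with hT
  have hTcl : IsClassFunction G T :=
    isClassFunction_tilde p (Core.isIrr_isClassFunction Core.isIrr_one)
  let infl : IrrCharacter (G ⧸ N) → IrrCharacter G := fun χ =>
    ⟨(χ : G ⧸ N → ℂ) ∘ QuotientGroup.mk' N,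
      Core.isIrr_comp (QuotientGroup.mk' N) (QuotientGroup.mk'_surjective N) χ.2⟩
  set F : G ⧸ N → ℂ := fun y => ∑ t : G ⧸ N, (if t * g * t⁻¹ = y then (1 : ℂ) else 0) with hF
  have hF2 := count_eq_sum g
  -- first computation
  have h1 : classInner T (F ∘ QuotientGroup.mk' N) =
      ∑ χ : IrrCharacter (G ⧸ N), (χ : G ⧸ N → ℂ) g * (coef p one (infl χ) : ℂ) := by
    have e : F ∘ QuotientGroup.mk' N =
        ∑ χ : IrrCharacter (G ⧸ N), conj ((χ : G ⧸ N → ℂ) g) • (infl χ : G → ℂ) := by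
      funext x
      rw [Function.comp_apply, hF, hF2, Finset.sum_apply, Finset.sum_apply]
      rfl
    rw [e, Core.classInner_sum_right]
    refine Finset.sum_congr rfl fun χ _ => ?_
    rw [Core.classInner_smul_right, Complex.conj_conj, ← coef_spec]
  -- second computation
  have h2 : classInner T (F ∘ QuotientGroup.mk' N) =
      (Nat.card G : ℂ)⁻¹ * ((Nat.card (G ⧸ N) : ℂ) * ((p ^ a : ℕ) * (c : ℂ))) := by
    unfold classInner
    congr 1
    have hreal : ∀ x : G, conj ((F ∘ QuotientGroup.mk' N) x) =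
        ∑ t : G ⧸ N, (if t * g * t⁻¹ = (x : G ⧸ N) then (1 : ℂ) else 0) := by
      intro x
      show conj (∑ t : G ⧸ N, (if t * g * t⁻¹ = (x : G ⧸ N) then (1 : ℂ) else 0)) = _
      rw [map_sum]
      refine Finset.sum_congr rfl fun t _ => ?_
      by_cases h : t * g * t⁻¹ = (x : G ⧸ N)
      · rw [if_pos h, map_one]
      · rw [if_neg h, map_zero]
    rw [Finset.sum_congr rfl (fun x _ => by rw [hreal x, Finset.mul_sum]), Finset.sum_comm]
    have h3 : ∀ t : G ⧸ N, ∑ x : G, T x * (if t * g * t⁻¹ = (x : G ⧸ N) then (1 : ℂ) else 0) =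
        (p ^ a : ℕ) * (c : ℂ) := by
      intro t
      obtain ⟨s, rfl⟩ := QuotientGroup.mk'_surjective N t
      rw [← Equiv.sum_comp (MulAut.conj s).toEquiv]
      have h4 : ∀ x : G, T ((MulAut.conj s).toEquiv x) *
          (if QuotientGroup.mk' N s * g * (QuotientGroup.mk' N s)⁻¹ =
            (((MulAut.conj s).toEquiv x : G) : G ⧸ N) then (1 : ℂ) else 0) =
          if (x : G ⧸ N) = g ∧ ¬ p ∣ orderOf x then ((p ^ a : ℕ) : ℂ) else 0 := by
        intro x
        have e1 : ((MulAut.conj s).toEquiv x : G) = s * x * s⁻¹ := rfl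
        rw [e1, hTcl x s]
        have e2 : (QuotientGroup.mk' N s * g * (QuotientGroup.mk' N s)⁻¹ =
            ((s * x * s⁻¹ : G) : G ⧸ N)) ↔ (x : G ⧸ N) = g := by
          rw [QuotientGroup.mk_mul, QuotientGroup.mk_mul, QuotientGroup.mk_inv,
            QuotientGroup.mk'_apply]
          constructor
          · intro h
            exact (mul_left_cancel (mul_right_cancel h)).symm
          · rintro rfl
            rfl
        by_cases h5 : (x : G ⧸ N) = g
        · rw [if_pos (e2.2 h5), mul_one, hT, tilde_def]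
          by_cases h6 : p ∣ orderOf x
          · rw [if_neg (fun h => h.2 h6)]
            exact if_pos h6
          · rw [if_pos ⟨h5, h6⟩]
            simp only [if_neg h6, Pi.one_apply, mul_one]
            rw [ha]
        · rw [if_neg (fun h => h5 (e2.1 h)), if_neg (fun h => h5 h.1), mul_zero]
      rw [Finset.sum_congr rfl (fun x _ => h4 x), ← Finset.sum_filter, Finset.sum_const,
        nsmul_eq_mul, mul_comm, hc, Nat.card_eq_fintype_card, Fintype.card_subtype]
    rw [Finset.sum_congr rfl (fun t _ => h3 t), Finset.sum_const, Finset.card_univ, nsmul_eq_mul,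
      ← Nat.card_eq_fintype_card]
  -- integrality
  have hN0 : (Nat.card N : ℂ) ≠ 0 := by exact_mod_cast Nat.card_pos.ne'
  have hQ0 : (Nat.card (G ⧸ N) : ℂ) ≠ 0 := by exact_mod_cast Nat.card_pos.ne'
  have hGN : (Nat.card G : ℂ) = (Nat.card (G ⧸ N) : ℂ) * (Nat.card N : ℂ) := by
    rw [← Nat.cast_mul, ← Subgroup.card_eq_card_quotient_mul_card_subgroup]
  have h3 : ((p ^ a : ℕ) * (c : ℂ)) / (Nat.card N : ℂ) =
      ∑ χ : IrrCharacter (G ⧸ N), (χ : G ⧸ N → ℂ) g * (coef p one (infl χ) : ℂ) := by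
    rw [← h1, h2, hGN]
    field_simp
  have h4 : IsIntegral ℤ (((p ^ a : ℕ) * (c : ℂ)) / (Nat.card N : ℂ)) := by
    rw [h3]
    refine IsIntegral.sum _ fun χ _ => IsIntegral.mul ?_ ?_
    · exact isIntegral_of_isCharacter (Core.isIrr_isCharacter χ.2) g
    · simpa using (isIntegral_algebraMap (R := ℤ) (A := ℂ) (x := coef p one (infl χ)))
  have h5 : IsIntegral ℤ ((((p ^ a * c : ℕ) : ℚ) / (Nat.card N : ℚ) : ℚ) : ℂ) := by
    push_cast
    push_cast at h4
    exact h4
  obtain ⟨k, hk⟩ := exists_int_of_isIntegral h5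
  have hN0' : (Nat.card N : ℚ) ≠ 0 := by exact_mod_cast Nat.card_pos.ne'
  rw [eq_div_iff hN0'] at hk
  have h6 : (Nat.card N : ℤ) ∣ ((p ^ a * c : ℕ) : ℤ) := ⟨k, by
    have : k * (Nat.card N : ℤ) = ((p ^ a * c : ℕ) : ℤ) := by exact_mod_cast hk
    rw [← this, mul_comm]⟩
  have h7 : Nat.card N ∣ p ^ a * c := by exact_mod_cast h6
  have h8 : Nat.card N / p ^ (Nat.card N).factorization p ∣ p ^ a * c :=
    (Nat.ordCompl_dvd _ p).trans h7
  refine Nat.Coprime.dvd_of_dvd_mul_left ?_ h8
  exact (Nat.Coprime.pow_right a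
    (Nat.coprime_comm.1 (Nat.coprime_ordCompl hp Nat.card_pos.ne')))

/-- A `p`-regular coset contains a `p`-regular element. -/
theorem exists_regular_lift [Finite G] (p : ℕ) [hp : Fact p.Prime] (N : Subgroup G) [N.Normal]
    (g : G ⧸ N) (hg : ¬ p ∣ orderOf g) : ∃ x : G, (x : G ⧸ N) = g ∧ ¬ p ∣ orderOf x := by
  obtain ⟨y, rfl⟩ := QuotientGroup.mk_surjective g
  set n := orderOf y with hn
  have hn0 : n ≠ 0 := (orderOf_pos y).ne'
  set k := n.factorization p with hk
  have hcop : Nat.Coprime (p ^ k) (orderOf (y : G ⧸ N)) :=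
    Nat.Coprime.pow_left _ ((Nat.Prime.coprime_iff_not_dvd hp.out).2 hg)
  obtain ⟨j, hj⟩ : ∃ j, p ^ k * j ≡ 1 [MOD orderOf (y : G ⧸ N)] := by
    have := Nat.exists_mul_mod_eq_one_of_coprime hcop
    by_cases h1 : 1 < orderOf (y : G ⧸ N)
    · obtain ⟨j, hj⟩ := this h1
      refine ⟨j, ?_⟩
      unfold Nat.ModEq
      rw [hj.2, Nat.mod_eq_of_lt h1]
    · have h2 : orderOf (y : G ⧸ N) = 1 := by
        have := orderOf_pos (y : G ⧸ N)
        omega
      rw [h2]
      exact ⟨0, Nat.modEq_one⟩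
  refine ⟨y ^ (p ^ k * j), ?_, ?_⟩
  · rw [QuotientGroup.mk_pow]
    conv_rhs => rw [← pow_one (y : G ⧸ N)]
    exact pow_eq_pow_iff_modEq.2 hj
  · have h3 : orderOf (y ^ (p ^ k * j)) ∣ n / p ^ k := by
      apply orderOf_dvd_of_pow_eq_one
      rw [← pow_mul]
      have : p ^ k * j * (n / p ^ k) = n * j := by
        have := Nat.ordProj_mul_ordCompl_eq_self n p
        rw [mul_right_comm]
        congr 1
      rw [this, pow_mul, hn, pow_orderOf_eq_one, one_pow]
    intro h
    exact Nat.not_dvd_ordCompl hp.out hn0 (h.trans h3)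

end Cfsg.Agent.H589.CosetReg
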