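import Cfsg.Agent.CharDeep.PowerDegrees
import Cfsg.Agent.Blocks.Knorr
import Cfsg.Agent.Characters.Brauer
import Mathlib.GroupTheory.Sylow

/-!
# Groups all of whose irreducible character degrees are small

* `degree_le_of_over`: if `θ` is a constituent of `χ` restricted to `H` then `θ(1) ≤ χ(1)`.
* `ti_normal`: a Sylow `p`-subgroup with trivial intersections is normal if all the irreducible
  constituents of `(1_N)^G`, `N` its normalizer, have degree smaller than its order.
* `normal_of_lt`: if all degrees of `G` are smaller than `p`, the Sylow `p`-subgroups are normal and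
  abelian.
-/

set_option autoImplicit false
set_option linter.unusedSectionVars false

open Cfsg Complex

namespace Cfsg.Agent.H589.SmallDegree

open Cfsg.Agent.Characters.Core

universe u

variable {G : Type u} [Group G]

/-- Degrees of constituents of a restriction. -/
theorem degree_le_of_over [Finite G] (H : Subgroup G) [Fintype H] {χ : G → ℂ}
    (hχ : IsCharacter G χ) {θ : H → ℂ} (hθ : IsIrrCharacter H θ)
    (h : classInner (fun n : H => χ n) θ ≠ 0) {a b : ℕ} (ha : χ 1 = a) (hb : θ 1 = b) : b ≤ a := by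
  classical
  have := finite_irr (G := H)
  have := Fintype.ofFinite (IrrCharacter H)
  have hc : IsCharacter H (fun n : H => χ n) := isCharacter_comp H.subtype hχ
  obtain ⟨m, hm⟩ := exists_nat_comb hc
  have h1 : classInner (fun n : H => χ n) θ = m ⟨θ, hθ⟩ := by
    rw [hm]
    exact classInner_sum_nsmul_irr m ⟨θ, hθ⟩
  rw [h1] at h
  have hm0 : m ⟨θ, hθ⟩ ≠ 0 := by exact_mod_cast h
  have hd : ∀ ψ : IrrCharacter H, ∃ n : ℕ, (ψ : H → ℂ) 1 = n := fun ψ => by
    obtain ⟨n, -, hn⟩ := isIrr_apply_one ψ.2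
    exact ⟨n, hn⟩
  choose d hd using hd
  have h2 : (a : ℂ) = ((∑ ψ : IrrCharacter H, m ψ * d ψ : ℕ) : ℂ) := by
    rw [← ha]
    have := congrFun hm 1
    simp only [Finset.sum_apply, Pi.smul_apply] at this
    rw [show χ 1 = χ ((1 : H) : G) from by rw [Subgroup.coe_one]]
    rw [this]
    push_cast
    refine Finset.sum_congr rfl fun ψ _ => ?_
    rw [hd ψ, nsmul_eq_mul]
  have h3 : a = ∑ ψ : IrrCharacter H, m ψ * d ψ := by exact_mod_cast h2
  have h4 : d ⟨θ, hθ⟩ = b := by
    have := hd ⟨θ, hθ⟩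
    have h5 : (d ⟨θ, hθ⟩ : ℂ) = b := by rw [← this]; exact hb
    exact_mod_cast h5
  rw [h3]
  calc b = 1 * d ⟨θ, hθ⟩ := by rw [h4, one_mul]
    _ ≤ m ⟨θ, hθ⟩ * d ⟨θ, hθ⟩ := Nat.mul_le_mul_right _ (Nat.pos_of_ne_zero hm0)
    _ ≤ ∑ ψ : IrrCharacter H, m ψ * d ψ :=
      Finset.single_le_sum (f := fun ψ => m ψ * d ψ) (fun _ _ => Nat.zero_le _)
        (Finset.mem_univ _)

/-- If `χ` restricted to `H` contains the trivial character, so does its restriction to a subgroup
`K` of `H`. -/
theorem inner_one_pos [Finite G] (K H : Subgroup G) [Fintype H] [Fintype K] (hKH : K ≤ H)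
    {χ : G → ℂ} (hχ : IsCharacter G χ)
    (h : classInner (fun n : H => χ n) (1 : H → ℂ) ≠ 0) :
    classInner (fun n : K => χ n) (1 : K → ℂ) ≠ 0 := by
  classical
  have := finite_irr (G := H)
  have := Fintype.ofFinite (IrrCharacter H)
  have hc : IsCharacter H (fun n : H => χ n) := isCharacter_comp H.subtype hχ
  obtain ⟨m, hm⟩ := exists_nat_comb hc
  have h1 : classInner (fun n : H => χ n) (1 : H → ℂ) = m ⟨1, isIrr_one⟩ := by
    rw [hm]
    exact classInner_sum_nsmul_irr m ⟨1, isIrr_one⟩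
  rw [h1] at h
  have hm0 : m ⟨1, isIrr_one⟩ ≠ 0 := by exact_mod_cast h
  have hK : ∀ ψ : IrrCharacter H, ∃ n : ℕ,
      classInner (fun k : K => (ψ : H → ℂ) ⟨k, hKH k.2⟩) (1 : K → ℂ) = n := fun ψ =>
    classInner_isNat (isCharacter_comp (Subgroup.inclusion hKH) (isIrr_isCharacter ψ.2))
      isCharacter_one
  choose d hd using hK
  have h2 : classInner (fun n : K => χ n) (1 : K → ℂ) = ((∑ ψ : IrrCharacter H, m ψ * d ψ : ℕ) : ℂ) := by
    have h3 : (fun n : K => χ n) =
        ∑ ψ : IrrCharacter H, (m ψ : ℂ) • (fun k : K => (ψ : H → ℂ) ⟨k, hKH k.2⟩) := by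
      funext k
      have := congrFun hm ⟨k, hKH k.2⟩
      simp only [Finset.sum_apply, Pi.smul_apply] at this ⊢
      rw [this]
      refine Finset.sum_congr rfl fun ψ _ => ?_
      rw [nsmul_eq_mul, smul_eq_mul]
    rw [h3, classInner_sum_left]
    push_cast
    refine Finset.sum_congr rfl fun ψ _ => ?_
    rw [classInner_smul_left, hd ψ]
  rw [h2]
  have h4 : d ⟨1, isIrr_one⟩ = 1 := by
    have h5 := hd ⟨1, isIrr_one⟩
    have h6 : classInner (1 : K → ℂ) (1 : K → ℂ) = 1 := classInner_irr_self isIrr_one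
    have h7 : (fun k : K => ((⟨1, isIrr_one⟩ : IrrCharacter H) : H → ℂ) ⟨k, hKH k.2⟩) = (1 : K → ℂ) := rfl
    rw [h7, h6] at h5
    exact_mod_cast h5.symm
  have h8 : 0 < ∑ ψ : IrrCharacter H, m ψ * d ψ := by
    calc 0 < m ⟨1, isIrr_one⟩ * d ⟨1, isIrr_one⟩ := by
          rw [h4, mul_one]; exact Nat.pos_of_ne_zero hm0
      _ ≤ _ := Finset.single_le_sum (f := fun ψ => m ψ * d ψ) (fun _ _ => Nat.zero_le _)
        (Finset.mem_univ _)
  exact_mod_cast h8.ne'

/-- The value of `(1_N)^G` at an element which is conjugate into `N` only by elements of `N`. -/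
theorem indFun_one_apply [Fintype G] (N : Subgroup G) (x : G) (hx : ∀ g : G, g⁻¹ * x * g ∈ N ↔ g ∈ N) :
    indFun N (1 : N → ℂ) x = 1 := by
  classical
  rw [indFun_apply]
  have h1 : ∀ g : G, extendByZero N (1 : N → ℂ) (g⁻¹ * x * g) = if g ∈ N then 1 else 0 := by
    intro g
    by_cases hg : g ∈ N
    · rw [extendByZero_of_mem N _ ((hx g).2 hg), if_pos hg]; rfl
    · rw [extendByZero_of_notMem N _ (fun h => hg ((hx g).1 h)), if_neg hg]
  simp only [h1]
  rw [Finset.sum_ite, Finset.sum_const_zero, add_zero, Finset.sum_const, nsmul_eq_mul, mul_one]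
  have h2 : (Finset.univ.filter (fun g : G => g ∈ N)).card = Nat.card N := by
    rw [Nat.card_eq_fintype_card, Fintype.card_subtype]
  rw [h2]
  exact inv_mul_cancel₀ (by exact_mod_cast (Nat.card_pos (α := N)).ne')

theorem indFun_one_one [Fintype G] (N : Subgroup G) :
    indFun N (1 : N → ℂ) 1 = (N.index : ℂ) := by
  classical
  rw [indFun_apply]
  have h1 : ∀ g : G, extendByZero N (1 : N → ℂ) (g⁻¹ * 1 * g) = 1 := by
    intro g
    have h : g⁻¹ * 1 * g = 1 := by group
    rw [h, extendByZero_of_mem N _ N.one_mem]; rfl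
  simp only [h1]
  rw [Finset.sum_const, nsmul_eq_mul, mul_one, Finset.card_univ, ← Nat.card_eq_fintype_card,
    ← N.index_mul_card]
  push_cast
  rw [mul_comm (N.index : ℂ), ← mul_assoc, inv_mul_cancel₀ (by exact_mod_cast (Nat.card_pos (α := N)).ne'), one_mul]

/-- A subgroup `P` all of whose intersections with its other conjugates are trivial is normal if
every nontrivial irreducible character with `N_G(P)`-fixed vectors has degree less than `|P|`. -/
theorem ti_normal [Finite G] (P N : Subgroup G) [Fintype N]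
    (hNP : N = Subgroup.normalizer (P : Set G))
    (hTI : ∀ x ∈ P, x ≠ 1 → ∀ g : G, g⁻¹ * x * g ∈ P → g ∈ N)
    (hN : ∀ x ∈ P, x ≠ 1 → ∀ g : G, g⁻¹ * x * g ∈ N → g⁻¹ * x * g ∈ P)
    (hd : ∀ χ : G → ℂ, IsIrrCharacter G χ → χ ≠ 1 → ∀ n : ℕ, χ 1 = n →
      classInner (fun y : N => χ y) (1 : N → ℂ) ≠ 0 → n < Nat.card P) :
    P.Normal := by
  classical
  have := Fintype.ofFinite G
  have := finite_irr (G := G)
  have := Fintype.ofFinite (IrrCharacter G)
  have hPN : P ≤ N := hNP ▸ Subgroup.le_normalizer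
  -- the values of `π`
  have hval : ∀ x ∈ P, x ≠ 1 → indFun N (1 : N → ℂ) x = 1 := by
    intro x hx hx1
    refine indFun_one_apply N x fun g => ⟨fun h => hTI x hx hx1 g (hN x hx hx1 g h), fun h => ?_⟩
    exact N.mul_mem (N.mul_mem (N.inv_mem h) (hPN hx)) h
  have hcl : IsClassFunction G (indFun N (1 : N → ℂ)) :=
    Cfsg.Agent.Characters.Brauer.indFun_isClassFunction N _
  have hexp := classFunction_eq_sum hcl
  -- natural numbers
  have ha : ∀ χ : IrrCharacter G, ∃ n : ℕ, classInner (fun y : N => (χ : G → ℂ) y) 1 = n := fun χ =>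
    classInner_isNat (isCharacter_comp N.subtype (isIrr_isCharacter χ.2)) isCharacter_one
  have hb : ∀ χ : IrrCharacter G, ∃ n : ℕ, classInner (fun y : P => (χ : G → ℂ) y) 1 = n := fun χ =>
    classInner_isNat (isCharacter_comp P.subtype (isIrr_isCharacter χ.2)) isCharacter_one
  have hdd : ∀ χ : IrrCharacter G, ∃ n : ℕ, (χ : G → ℂ) 1 = n := fun χ => by
    obtain ⟨n, -, hn⟩ := isIrr_apply_one χ.2
    exact ⟨n, hn⟩
  choose a ha using ha
  choose b hb using hb
  choose d hdd using hdd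
  have hcoef : ∀ χ : IrrCharacter G, classInner (indFun N (1 : N → ℂ)) (χ : G → ℂ) = (a χ : ℂ) := by
    intro χ
    rw [Cfsg.Agent.Characters.Brauer.classInner_indFun N _ _ _ (isIrr_isClassFunction χ.2),
      ← classInner_conj_symm, ha χ]
    simp
  have hexp2 : ∀ g : G, indFun N (1 : N → ℂ) g = ∑ χ : IrrCharacter G, (a χ : ℂ) * (χ : G → ℂ) g := by
    intro g
    conv_lhs => rw [hexp]
    simp only [Finset.sum_apply, Pi.smul_apply, smul_eq_mul, hcoef]
  -- sums over `P`
  have hsP : ∀ χ : IrrCharacter G, ∑ y : P, (χ : G → ℂ) y = (Nat.card P : ℂ) * b χ := by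
    intro χ
    have h := hb χ
    rw [classInner_def] at h
    simp only [Pi.one_apply, map_one, mul_one] at h
    rw [← h, ← mul_assoc, mul_inv_cancel₀ (by exact_mod_cast (Nat.card_pos (α := P)).ne'), one_mul]
  have hsum1 : ∑ y : P, indFun N (1 : N → ℂ) (y : G) = (N.index : ℂ) + ((Nat.card P : ℂ) - 1) := by
    rw [← Finset.add_sum_erase Finset.univ _ (Finset.mem_univ (1 : P))]
    rw [Subgroup.coe_one, indFun_one_one]
    congr 1
    rw [Finset.sum_congr rfl (g := fun _ => (1 : ℂ)) (fun y hy => by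
      refine hval y y.2 fun h => ?_
      exact (Finset.mem_erase.1 hy).1 (Subtype.ext h))]
    rw [Finset.sum_const, Finset.card_erase_of_mem (Finset.mem_univ _), Finset.card_univ,
      ← Nat.card_eq_fintype_card, nsmul_eq_mul, mul_one, Nat.cast_sub (Nat.card_pos (α := P))]
    simp
  have hsum2 : ∑ y : P, indFun N (1 : N → ℂ) (y : G) =
      ∑ χ : IrrCharacter G, (a χ : ℂ) * ((Nat.card P : ℂ) * b χ) := by
    simp only [hexp2]
    rw [Finset.sum_comm]
    refine Finset.sum_congr rfl fun χ _ => ?_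
    rw [← Finset.mul_sum, hsP χ]
  have hone : (N.index : ℂ) = ∑ χ : IrrCharacter G, (a χ : ℂ) * d χ := by
    rw [← indFun_one_one, hexp2]
    exact Finset.sum_congr rfl fun χ _ => by rw [hdd χ]
  have hkey : ∑ χ : IrrCharacter G, (a χ : ℤ) * ((Nat.card P : ℤ) * b χ - d χ) = (Nat.card P : ℤ) - 1 := by
    have h : ((∑ χ : IrrCharacter G, (a χ : ℤ) * ((Nat.card P : ℤ) * b χ - d χ) : ℤ) : ℂ) =
        (((Nat.card P : ℤ) - 1 : ℤ) : ℂ) := by
      push_cast
      rw [hsum1, hone] at hsum2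
      have : ∀ χ : IrrCharacter G, (a χ : ℂ) * ((Nat.card P : ℂ) * b χ - d χ) =
        (a χ : ℂ) * ((Nat.card P : ℂ) * b χ) - (a χ : ℂ) * d χ := fun χ => by ring
      simp only [this]
      rw [Finset.sum_sub_distrib, ← hsum2]
      ring
    exact_mod_cast h
  -- the trivial character
  set o : IrrCharacter G := ⟨1, isIrr_one⟩ with ho
  have hao : a o = 1 := by
    have h := ha o
    have h1 : classInner (fun y : N => (o : G → ℂ) y) 1 = 1 := classInner_irr_self isIrr_one
    rw [h1] at h; exact_mod_cast h.symm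
  have hbo : b o = 1 := by
    have h := hb o
    have h1 : classInner (fun y : P => (o : G → ℂ) y) 1 = 1 := classInner_irr_self isIrr_one
    rw [h1] at h; exact_mod_cast h.symm
  have hdo : d o = 1 := by
    have h := hdd o
    have h1 : (o : G → ℂ) 1 = 1 := rfl
    rw [h1] at h; exact_mod_cast h.symm
  rw [← Finset.add_sum_erase Finset.univ _ (Finset.mem_univ o), hao, hbo, hdo] at hkey
  have hrest : ∑ χ ∈ Finset.univ.erase o, (a χ : ℤ) * ((Nat.card P : ℤ) * b χ - d χ) = 0 := by
    push_cast at hkey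
    linarith
  have hpos : ∀ χ : IrrCharacter G, χ ≠ o → a χ ≠ 0 → 0 < (Nat.card P : ℤ) * b χ - d χ := by
    intro χ hχ h0
    have h1 : classInner (fun y : N => (χ : G → ℂ) y) 1 ≠ 0 := by
      rw [ha χ]; exact_mod_cast h0
    have h2 := inner_one_pos P N hPN (isIrr_isCharacter χ.2) h1
    rw [hb χ] at h2
    have h3 : b χ ≠ 0 := by exact_mod_cast h2
    have h4 := hd χ χ.2 (fun h => hχ (Subtype.ext h)) (d χ) (hdd χ) h1
    have h5 : (1 : ℤ) ≤ b χ := by exact_mod_cast Nat.pos_of_ne_zero h3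
    have h6 : (d χ : ℤ) < Nat.card P := by exact_mod_cast h4
    nlinarith
  have hnonneg : ∀ χ ∈ Finset.univ.erase o, 0 ≤ (a χ : ℤ) * ((Nat.card P : ℤ) * b χ - d χ) := by
    intro χ hχ
    by_cases h0 : a χ = 0
    · rw [h0]; simp
    · exact mul_nonneg (by positivity) (hpos χ (Finset.mem_erase.1 hχ).1 h0).le
  have hzero : ∀ χ : IrrCharacter G, χ ≠ o → a χ = 0 := by
    intro χ hχ
    by_contra h0
    have h := (Finset.sum_eq_zero_iff_of_nonneg hnonneg).1 hrest χ
      (Finset.mem_erase.2 ⟨hχ, Finset.mem_univ _⟩)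
    have h1 := hpos χ hχ h0
    have h2 : (0 : ℤ) < a χ := by exact_mod_cast Nat.pos_of_ne_zero h0
    exact (mul_pos h2 h1).ne' h
  have hidx : N.index = 1 := by
    have h : (N.index : ℂ) = 1 := by
      rw [hone, ← Finset.add_sum_erase Finset.univ _ (Finset.mem_univ o), hao, hdo,
        Finset.sum_eq_zero]
      · simp
      · intro χ hχ
        rw [hzero χ (Finset.mem_erase.1 hχ).1]
        simp
    exact_mod_cast h
  exact Subgroup.normalizer_eq_top_iff.1 (hNP ▸ Subgroup.index_eq_one.1 hidx)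

end Cfsg.Agent.H589.SmallDegree
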